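import Groth.Agent.EquidimLib.DimBetween
import Groth.Agent.DimIneqLib.Equality
import Groth.Agent.CatLib.Basic
import Mathlib

/-! # Lengths between points add up in catenary local rings -/

set_option autoImplicit false
universe u

open CategoryTheory AlgebraicGeometry TopologicalSpace Topology

namespace JacDimLib

variable {X : Scheme.{u}}

theorem dimBetween_add_eq {ξ z x : X} (hξz : ξ ⤳ z) (hzx : z ⤳ x)
    (hcat : CAlg.IsUniversallyCatenary (X.presheaf.stalk x)) :
    EquidimLib.dimBetween ξ x = EquidimLib.dimBetween ξ z + EquidimLib.dimBetween z x := by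
  haveI := hcat.1
  let j := EquidimLib.stalkPt x
  obtain ⟨P, hP⟩ := EquidimLib.exists_stalkPt (hξz.trans hzx)
  obtain ⟨q, hq⟩ := EquidimLib.exists_stalkPt hzx
  let mk := Ideal.Quotient.mk P.asIdeal
  have hPq : P.asIdeal ≤ q.asIdeal := EquidimLib.le_of_stalkPt (hP.symm ▸ hq.symm ▸ hξz)
  obtain ⟨q', hq'⟩ : q ∈ Set.range (PrimeSpectrum.comap mk) := by rw [EquidimLib.comap_mk_range]; exact hPq
  let i : PrimeSpectrum (X.presheaf.stalk x ⧸ P.asIdeal) → X := j ∘ PrimeSpectrum.comap mk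
  have hi : IsInducing i := (EquidimLib.isInducing_stalkPt x).comp
    (PrimeSpectrum.isClosedEmbedding_comap_of_surjective _ _ Ideal.Quotient.mk_surjective).isInducing
  have hiz : i q' = z := by show j (PrimeSpectrum.comap mk q') = z; rw [hq']; exact hq
  have hrange : Set.range i = {v | ξ ⤳ v ∧ v ⤳ x} := by
    rw [Set.range_comp, EquidimLib.comap_mk_range]
    ext v
    constructor
    · rintro ⟨p, hp, rfl⟩
      exact ⟨hP ▸ EquidimLib.specializes_stalkPt hp, EquidimLib.stalkPt_specializes x p⟩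
    · rintro ⟨h1, h2⟩
      obtain ⟨p, rfl⟩ := EquidimLib.exists_stalkPt h2
      exact ⟨p, EquidimLib.le_of_stalkPt (hP.symm ▸ h1), rfl⟩
  let A := X.presheaf.stalk x ⧸ P.asIdeal
  haveI : IsLocalRing A := IsLocalRing.of_surjective' _ Ideal.Quotient.mk_surjective
  have hA : CAlg.IsCatenary A := hcat.2 A inferInstance
  haveI : IsLocalRing (A ⧸ q'.asIdeal) := IsLocalRing.of_surjective' _ Ideal.Quotient.mk_surjective
  have key := DimIneqLib.height_eq_add_of_catenary hA (Ideal.Quotient.mk q'.asIdeal) Ideal.Quotient.mk_surjective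
    (IsLocalRing.maximalIdeal (A ⧸ q'.asIdeal))
  rw [IsLocalRing.eq_maximalIdeal (Ideal.comap_isMaximal_of_surjective (Ideal.Quotient.mk q'.asIdeal)
    Ideal.Quotient.mk_surjective), Ideal.mk_ker] at key
  have e := congrArg (fun a : ℕ∞ => (a : WithBot ℕ∞)) key
  simp only [WithBot.coe_add] at e
  rw [IsLocalRing.maximalIdeal_height_eq_ringKrullDim, IsLocalRing.maximalIdeal_height_eq_ringKrullDim,
    EquidimLib.dim_eq_of_range hi hrange, EquidimLib.height_eq_of_inducing hi q', hiz, hrange,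
    EquidimLib.dim_eq_of_range (hi.comp
      (PrimeSpectrum.isClosedEmbedding_comap_of_surjective _ _ Ideal.Quotient.mk_surjective).isInducing)
      (S := {v | z ⤳ v ∧ v ⤳ x}) ?_] at e
  · refine e.trans (congrArg₂ (· + ·) ?_ rfl)
    show _ = topologicalKrullDim ↥{v : X | ξ ⤳ v ∧ v ⤳ z}
    rw [show {v : X | ξ ⤳ v ∧ v ⤳ z} = {v | v ∈ {v | ξ ⤳ v ∧ v ⤳ x} ∧ v ⤳ z} from Set.ext fun v ↦
      ⟨fun h ↦ ⟨⟨h.1, h.2.trans hzx⟩, h.2⟩, fun h ↦ ⟨h.1.1, h.2⟩⟩]
  · rw [Set.range_comp, EquidimLib.comap_mk_range]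
    ext v
    constructor
    · rintro ⟨p, hp, rfl⟩
      have h : i p ∈ Set.range i := ⟨p, rfl⟩
      rw [hrange] at h
      exact ⟨hiz ▸ ((PrimeSpectrum.le_iff_specializes q' p).mp hp).map hi.continuous, h.2⟩
    · rintro ⟨h1, h2⟩
      obtain ⟨p, rfl⟩ : v ∈ Set.range i := hrange ▸ ⟨hξz.trans h1, h2⟩
      exact ⟨p, (PrimeSpectrum.le_iff_specializes q' p).mpr (hi.specializes_iff.mp (hiz.symm ▸ h1)), rfl⟩

end JacDimLib
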