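import Groth.Agent.JacDimLib.LocalDim
import Groth.Agent.EquidimLib.DimEquality
import Groth.Agent.CatLib.More
import Mathlib

/-! # The hypotheses on the base pass to schemes locally of finite type over it -/

set_option autoImplicit false
universe u

open CategoryTheory AlgebraicGeometry TopologicalSpace Topology UOpenLib

namespace JacDimLib

variable {X S : Scheme.{u}}

theorem isUniversallyCatenary_stalk_of_lft (p : X ⟶ S) [LocallyOfFiniteType p] (x : X)
    (h : CAlg.IsUniversallyCatenary (S.presheaf.stalk (p.base x))) :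
    CAlg.IsUniversallyCatenary (X.presheaf.stalk x) := by
  obtain ⟨U, hU, hsU, -⟩ := exists_isAffineOpen_mem_and_subset (X := S) (x := p x) (U := ⊤) trivial
  obtain ⟨V, hV, hxV, hVU⟩ := exists_isAffineOpen_mem_and_subset (X := X) (x := x) (U := p ⁻¹ᵁ U) hsU
  have hVU : V ≤ p ⁻¹ᵁ U := hVU
  letI : Algebra Γ(S, U) Γ(X, V) := (p.appLE U V hVU).hom.toAlgebra
  haveI : Algebra.FiniteType Γ(S, U) Γ(X, V) := p.finiteType_appLE hU hV hVU
  let q := (hV.primeIdealOf ⟨x, hxV⟩).asIdeal
  let r := (hU.primeIdealOf ⟨p x, hVU hxV⟩).asIdeal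
  have hover : r = q.comap (algebraMap Γ(S, U) Γ(X, V)) :=
    (congrArg PrimeSpectrum.asIdeal (IsAffineOpen.comap_primeIdealOf_appLE U hU V hV hVU hxV)).symm
  letI := TopCat.Presheaf.algebra_section_stalk S.presheaf ⟨p x, hVU hxV⟩
  haveI hlocS : IsLocalization.AtPrime (S.presheaf.stalk (p x)) r := hU.isLocalization_stalk ⟨p x, hVU hxV⟩
  have hA : CAlg.IsUniversallyCatenary (Localization.AtPrime r) := by
    haveI : IsLocalization.AtPrime (S.presheaf.stalk (p x)) (r.comap (RingHom.id Γ(S, U))) := hlocS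
    exact EquidimLib.isUniversallyCatenary_atPrime_quotient (RingHom.id Γ(S, U)) Function.surjective_id r
      (S.presheaf.stalk (p x)) h
  letI : Algebra (Localization.AtPrime r) (Localization.AtPrime q) :=
    (Localization.localRingHom r q (algebraMap Γ(S, U) Γ(X, V)) hover).toAlgebra
  haveI : IsScalarTower Γ(S, U) (Localization.AtPrime r) (Localization.AtPrime q) :=
    IsScalarTower.of_algebraMap_eq fun a ↦ by
      rw [RingHom.algebraMap_toAlgebra, Localization.localRingHom_to_map, ← IsScalarTower.algebraMap_apply]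
  haveI : Algebra.EssFiniteType Γ(X, V) (Localization.AtPrime q) :=
    Algebra.EssFiniteType.of_isLocalization _ q.primeCompl
  haveI : Algebra.EssFiniteType Γ(S, U) (Localization.AtPrime q) :=
    Algebra.EssFiniteType.comp Γ(S, U) Γ(X, V) _
  haveI : Algebra.EssFiniteType (Localization.AtPrime r) (Localization.AtPrime q) :=
    Algebra.EssFiniteType.of_comp Γ(S, U) _ _
  have hB := CatLib.isUniversallyCatenary_of_essFiniteType (Localization.AtPrime r) (Localization.AtPrime q) hA
  letI := TopCat.Presheaf.algebra_section_stalk X.presheaf ⟨x, hxV⟩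
  haveI hlocX : IsLocalization.AtPrime (X.presheaf.stalk x) q := hV.isLocalization_stalk ⟨x, hxV⟩
  let e : Localization.AtPrime q ≃ₐ[Γ(X, V)] X.presheaf.stalk x := IsLocalization.algEquiv q.primeCompl _ _
  letI : Algebra (Localization.AtPrime q) (X.presheaf.stalk x) := e.toAlgHom.toRingHom.toAlgebra
  haveI : Algebra.FiniteType (Localization.AtPrime q) (X.presheaf.stalk x) :=
    Algebra.FiniteType.of_surjective (Algebra.ofId _ _) e.surjective
  exact CatLib.isUniversallyCatenary_of_finiteType _ _ hB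

theorem dimBetween_add_fcd_closed (p : X ⟶ S) [LocallyOfFiniteType p] [IsLocallyNoetherian S] [JacobsonSpace S]
    (h2 : ∀ s : S, CAlg.IsUniversallyCatenary (S.presheaf.stalk s)) {η x : X} (h : η ⤳ x)
    (hx : IsClosed ({x} : Set X)) :
    EquidimLib.dimBetween η x = EquidimLib.dimBetween (p.base η) (p.base x) + fibreClosureDim p η := by
  have e := EquidimLib.dimBetween_add_fibreClosureDim_eq p h (h2 _)
  rwa [fibreClosureDim_of_closed p hx, add_zero] at e

theorem h2_of_lft (p : X ⟶ S) [LocallyOfFiniteType p]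
    (h2 : ∀ s : S, CAlg.IsUniversallyCatenary (S.presheaf.stalk s)) (x : X) :
    CAlg.IsUniversallyCatenary (X.presheaf.stalk x) :=
  isUniversallyCatenary_stalk_of_lft p x (h2 _)

theorem h3_of_lft (p : X ⟶ S) [LocallyOfFiniteType p] [IsLocallyNoetherian S] [JacobsonSpace S]
    (h2 : ∀ s : S, CAlg.IsUniversallyCatenary (S.presheaf.stalk s))
    (h3 : ∀ S' ∈ irreducibleComponents (S : Type u), ∀ s ∈ S', IsClosed ({s} : Set S) →
      topologicalKrullDim (↥S' : Type u) = topologicalKrullDim ↥{t : S | t ∈ S' ∧ t ⤳ s})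
    (X' : Set X) (hX' : X' ∈ irreducibleComponents (X : Type u)) (x : X) (hx : x ∈ X')
    (hxc : IsClosed ({x} : Set X)) :
    topologicalKrullDim (↥X' : Type u) = topologicalKrullDim ↥{t : X | t ∈ X' ∧ t ⤳ x} := by
  haveI : IsLocallyNoetherian X := LocallyOfFiniteType.isLocallyNoetherian p
  haveI := LocallyOfFiniteType.jacobsonSpace p
  have hcl := isClosed_of_mem_irreducibleComponents X' hX'
  obtain ⟨ξ, hξ⟩ := QuasiSober.sober hX'.1 hcl
  have hmem : ∀ t, t ∈ X' ↔ ξ ⤳ t := fun t ↦ hξ.specializes_iff_mem.symm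
  rw [show {t : X | t ∈ X' ∧ t ⤳ x} = {t | ξ ⤳ t ∧ t ⤳ x} from Set.ext fun t ↦ and_congr_left' (hmem t)]
  change _ = EquidimLib.dimBetween ξ x
  haveI := hcl.isClosedEmbedding_subtypeVal.quasiSober
  refine le_antisymm (dim_le_of_pairs fun η hη v hv hηv ↦ ?_) ?_
  · obtain ⟨x', hvx', hx'⟩ := exists_closed_specialization v
    have hξx' : ξ ⤳ x' := ((hmem v).1 hv).trans hvx'
    refine ((dimBetween_mono ((hmem η).1 hη)).trans (dimBetween_mono_right hvx')).trans (le_of_eq ?_)
    rw [dimBetween_add_fcd_closed p h2 hξx' hx', dimBetween_add_fcd_closed p h2 ((hmem x).1 hx) hxc,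
      dimBetween_closed_eq h2 h3 (hξx'.map p.continuous) (((hmem x).1 hx).map p.continuous)
        (p.closePoints_subset_preimage_closedPoints hx') (p.closePoints_subset_preimage_closedPoints hxc)]
  · have hsub : {t : X | ξ ⤳ t ∧ t ⤳ x} ⊆ X' := fun t ht ↦ (hmem t).2 ht.1
    exact (IsEmbedding.inclusion hsub).isInducing.topologicalKrullDim_le

end JacDimLib
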