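import Groth.Agent.JacDimLib.Between
import Groth.Agent.EquidimLib.DimEquality
import Groth.Agent.EquidimLib.DimIrreducible
import Groth.Agent.DimIneqLib.Dim
import Mathlib

/-! # Dimension of irreducible schemes over equidimensional Jacobson bases -/

set_option autoImplicit false
universe u

open CategoryTheory AlgebraicGeometry TopologicalSpace Topology UOpenLib

namespace JacDimLib

variable {X S : Scheme.{u}}

theorem exists_closed_specialization [JacobsonSpace X] (x : X) :
    ∃ x₀ : X, x ⤳ x₀ ∧ IsClosed ({x₀} : Set X) := by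
  obtain ⟨x₀, h1, h2⟩ := nonempty_inter_closedPoints (Z := closure ({x} : Set X))
    ⟨x, subset_closure rfl⟩ isClosed_closure.isLocallyClosed
  exact ⟨x₀, specializes_iff_mem_closure.mpr h1, h2⟩

theorem stalk_dim_mono {z x : X} (h : z ⤳ x) :
    ringKrullDim (X.presheaf.stalk z) ≤ ringKrullDim (X.presheaf.stalk x) := by
  rw [EquidimLib.stalk_dim_eq, EquidimLib.stalk_dim_eq]
  have hsub : {v : X | v ⤳ z} ⊆ {v | v ⤳ x} := fun v (hv : v ⤳ z) ↦ hv.trans h
  exact (IsEmbedding.inclusion hsub).isInducing.topologicalKrullDim_le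

theorem dim_eq_of_closed [JacobsonSpace X] [Nonempty X] {c : WithBot ℕ∞}
    (h : ∀ x : X, IsClosed ({x} : Set X) → ringKrullDim (X.presheaf.stalk x) = c) :
    topologicalKrullDim (X : Type u) = c := by
  refine le_antisymm (le_of_forall_nat_le fun n hn ↦ ?_) ?_
  · obtain ⟨x, hx⟩ := DimIneqLib.exists_stalk_of_chain hn
    obtain ⟨x₀, hxx₀, hx₀⟩ := exists_closed_specialization x
    exact h x₀ hx₀ ▸ hx.trans (stalk_dim_mono hxx₀)
  · obtain ⟨x₀, -, hx₀⟩ := exists_closed_specialization (Classical.arbitrary X)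
    exact h x₀ hx₀ ▸ DimIneqLib.stalk_dim_le_dim x₀

theorem fibreClosureDim_of_closed {Y : Scheme.{u}} (f : X ⟶ Y) [LocallyOfFiniteType f] {x : X}
    (hx : IsClosed ({x} : Set X)) : fibreClosureDim f x = 0 := by
  unfold fibreClosureDim
  have hc : IsClosed ({f.asFiber x} : Set (f.fiber (f.base x))) := by
    have := hx.preimage (f.fiberι (f.base x)).continuous
    rwa [show (f.fiberι (f.base x)).base ⁻¹' {x} = {f.asFiber x} from Set.ext fun v ↦
      ⟨fun hv ↦ (f.fiberι (f.base x)).isEmbedding.injective (hv.trans (f.fiberι_asFiber x).symm),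
        fun hv ↦ by rw [Set.mem_singleton_iff.1 hv]; exact f.fiberι_asFiber x⟩] at this
  rw [hc.closure_eq]
  refine le_antisymm ?_ ?_
  · have : Subsingleton (IrreducibleCloseds ↥({f.asFiber x} : Set (f.fiber (f.base x)))) :=
      ⟨fun a b ↦ IrreducibleCloseds.ext ((Subsingleton.eq_univ_of_nonempty a.isIrreducible.nonempty).trans
        (Subsingleton.eq_univ_of_nonempty b.isIrreducible.nonempty).symm)⟩
    exact Order.krullDim_nonpos_of_subsingleton
  · exact le_topologicalKrullDim_of_chain (n := 0) (fun _ ↦ (Classical.arbitrary _))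
      (fun i j _ ↦ Fin.ext (by omega)) fun _ _ _ ↦ specializes_rfl

/-- The dimension between a point and a closed point below it does not depend on the closed point. -/
theorem dimBetween_closed_eq [IsLocallyNoetherian S]
    (h2 : ∀ s : S, CAlg.IsUniversallyCatenary (S.presheaf.stalk s))
    (h3 : ∀ S' ∈ irreducibleComponents (S : Type u), ∀ s ∈ S', IsClosed ({s} : Set S) →
      topologicalKrullDim (↥S' : Type u) = topologicalKrullDim ↥{t : S | t ∈ S' ∧ t ⤳ s})
    {σ s s' : S} (hs : σ ⤳ s) (hs' : σ ⤳ s') (hc : IsClosed ({s} : Set S)) (hc' : IsClosed ({s'} : Set S)) :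
    EquidimLib.dimBetween σ s = EquidimLib.dimBetween σ s' := by
  have hC := irreducibleComponent_mem_irreducibleComponents σ
  obtain ⟨σ₀, hσ₀⟩ := QuasiSober.sober (isIrreducible_irreducibleComponent (x := σ))
    isClosed_irreducibleComponent
  have hmem : ∀ t, t ∈ irreducibleComponent σ ↔ σ₀ ⤳ t := fun t ↦ hσ₀.specializes_iff_mem.symm
  have h0 : σ₀ ⤳ σ := (hmem σ).1 mem_irreducibleComponent
  have key : ∀ t, σ ⤳ t → IsClosed ({t} : Set S) →
      topologicalKrullDim (↥(irreducibleComponent σ) : Type u) = EquidimLib.dimBetween σ₀ σ + EquidimLib.dimBetween σ t := by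
    intro t ht htc
    rw [← dimBetween_add_eq h0 ht (h2 t), h3 _ hC t ((hmem t).2 (h0.trans ht)) htc]
    unfold EquidimLib.dimBetween
    rw [show {v : S | v ∈ irreducibleComponent σ ∧ v ⤳ t} = {v | σ₀ ⤳ v ∧ v ⤳ t} from
      Set.ext fun v ↦ and_congr_left' (hmem v)]
  have e := (key s hs hc).symm.trans (key s' hs' hc')
  obtain ⟨a, ha⟩ := EquidimLib.exists_dimBetween_eq_nat h0
  obtain ⟨b, hb⟩ := EquidimLib.exists_dimBetween_eq_nat hs
  obtain ⟨b', hb'⟩ := EquidimLib.exists_dimBetween_eq_nat hs'
  rw [ha, hb, hb'] at e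
  have e' : a + b = a + b' := by exact_mod_cast e
  rw [hb, hb', Nat.add_left_cancel e']

/-- The dimension of an irreducible scheme locally of finite type over an equidimensional Jacobson base. -/
theorem dim_eq_dimBetween_add [IsLocallyNoetherian S] [JacobsonSpace S]
    (h2 : ∀ s : S, CAlg.IsUniversallyCatenary (S.presheaf.stalk s))
    (h3 : ∀ S' ∈ irreducibleComponents (S : Type u), ∀ s ∈ S', IsClosed ({s} : Set S) →
      topologicalKrullDim (↥S' : Type u) = topologicalKrullDim ↥{t : S | t ∈ S' ∧ t ⤳ s})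
    (p : X ⟶ S) [LocallyOfFiniteType p] [IrreducibleSpace X] {s : S}
    (hs : p.base (genericPoint X) ⤳ s) (hc : IsClosed ({s} : Set S)) :
    topologicalKrullDim (X : Type u) =
      EquidimLib.dimBetween (p.base (genericPoint X)) s + fibreClosureDim p (genericPoint X) := by
  haveI : IsLocallyNoetherian X := LocallyOfFiniteType.isLocallyNoetherian p
  haveI := LocallyOfFiniteType.jacobsonSpace p
  refine dim_eq_of_closed fun x hx ↦ ?_
  have hpx : IsClosed ({p.base x} : Set S) := p.closePoints_subset_preimage_closedPoints hx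
  have hξ : genericPoint X ⤳ x := genericPoint_specializes x
  have h := EquidimLib.dimBetween_add_fibreClosureDim_eq p hξ (h2 _)
  rw [fibreClosureDim_of_closed p hx, add_zero] at h
  rw [← EquidimLib.dimBetween_genericPoint x, h,
    dimBetween_closed_eq h2 h3 (hξ.map p.continuous) hs hpx hc]

theorem fibre_dim_eq_of_dominant {Y : Scheme.{u}} (f : X ⟶ Y) [LocallyOfFiniteType f] [IrreducibleSpace X] :
    topologicalKrullDim ↥(f.fiber (f.base (genericPoint X))) = fibreClosureDim f (genericPoint X) := by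
  unfold fibreClosureDim
  have : closure ({f.asFiber (genericPoint X)} : Set (f.fiber (f.base (genericPoint X)))) = Set.univ :=
    Set.eq_univ_of_forall fun w ↦ specializes_iff_mem_closure.1 <|
      (f.fiberι (f.base (genericPoint X))).isEmbedding.isInducing.specializes_iff.1
        (by rw [f.fiberι_asFiber]; exact genericPoint_specializes _)
  rw [this]
  exact (IsHomeomorph.topologicalKrullDim_eq _ (Homeomorph.Set.univ _).isHomeomorph).symm

theorem fibreClosureDim_comp {Y : Scheme.{u}} (f : X ⟶ Y) (q : Y ⟶ S) [LocallyOfFiniteType f]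
    [LocallyOfFiniteType q] (x : X) :
    fibreClosureDim (f ≫ q) x = fibreClosureDim q (f.base x) + fibreClosureDim f x := by
  rw [DimIneqLib.fibreClosureDim_eq_trH, DimIneqLib.fibreClosureDim_eq_trH, DimIneqLib.fibreClosureDim_eq_trH,
    ← WithBot.coe_add]
  exact congrArg _ ((congrArg (fun g => DimIneqLib.trH (CommRingCat.Hom.hom g))
    (Scheme.residueFieldMap_comp f q x)).trans (DimIneqLib.trH_comp _ _))

end JacDimLib
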