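import Groth.Agent.JacDimLib.Main
import Groth.Agent.SweepSix.MaxPts
import Mathlib

/-! # Dense opens in equidimensional Jacobson schemes -/

set_option autoImplicit false
universe u

open CategoryTheory AlgebraicGeometry TopologicalSpace Topology UOpenLib

namespace JacDimLib

variable {X : Scheme.{u}}

theorem eq_of_specializes_of_component {ξ w : X} (hξ : closure {ξ} ∈ irreducibleComponents (X : Type u))
    (hw : w ⤳ ξ) : w = ξ := by
  have h : closure {ξ} ⊆ closure {w} := hw.closure_subset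
  exact (inseparable_iff_closure_eq.2
    (le_antisymm (hξ.2 isIrreducible_singleton.closure h) h)).eq

theorem dim_dense_open [IsLocallyNoetherian X] [JacobsonSpace X]
    (h2 : ∀ x : X, CAlg.IsUniversallyCatenary (X.presheaf.stalk x))
    (h3 : ∀ X' ∈ irreducibleComponents (X : Type u), ∀ x ∈ X', IsClosed ({x} : Set X) →
      topologicalKrullDim (↥X' : Type u) = topologicalKrullDim ↥{t : X | t ∈ X' ∧ t ⤳ x})
    {U : Set X} (hU : IsOpen U) (hd : Dense U) :
    topologicalKrullDim ↥U = topologicalKrullDim (X : Type u) := by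
  refine le_antisymm (topologicalKrullDim_subspace_le _ _) (le_of_forall_nat_le fun n hn ↦ ?_)
  obtain ⟨x, hx⟩ := DimIneqLib.exists_stalk_of_chain hn
  obtain ⟨x₀, hxx₀, hx₀⟩ := exists_closed_specialization x
  obtain ⟨ξ, hξ, hξx₀, hd'⟩ := EquidimLib.exists_max_dimBetween x₀
  have hξU : ξ ∈ U := SweepSix.scheme_mem_of_dense_of_maximal hU hd fun w hw ↦
    eq_of_specializes_of_component hξ hw
  obtain ⟨x₁, ⟨hx₁U, hx₁c⟩, hx₁⟩ := nonempty_inter_closedPoints (Z := U ∩ closure ({ξ} : Set X))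
    ⟨ξ, hξU, subset_closure rfl⟩ (hU.isLocallyClosed.inter isClosed_closure.isLocallyClosed)
  have hξx₁ : ξ ⤳ x₁ := specializes_iff_mem_closure.2 hx₁c
  refine (hx.trans (stalk_dim_mono hxx₀)).trans ?_
  rw [← hd', dimBetween_closed_eq h2 h3 hξx₀ hξx₁ hx₀ hx₁]
  have hsub : {v : X | ξ ⤳ v ∧ v ⤳ x₁} ⊆ U := fun v hv ↦ hv.2.mem_open hU hx₁U
  exact (IsEmbedding.inclusion hsub).isInducing.topologicalKrullDim_le

end JacDimLib
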