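import Groth.Agent.JacDimLib.Inherit
import Mathlib

/-! # Intervals and closures seen through embeddings -/

set_option autoImplicit false
universe u

open CategoryTheory AlgebraicGeometry TopologicalSpace Topology

namespace JacDimLib

variable {W Z : Scheme.{u}}

theorem dimBetween_map (i : W ⟶ Z) (hi : IsEmbedding i.base) {a b : W}
    (hr : ∀ v, i.base a ⤳ v → v ⤳ i.base b → v ∈ Set.range i.base) :
    EquidimLib.dimBetween (i.base a) (i.base b) = EquidimLib.dimBetween a b := by
  unfold EquidimLib.dimBetween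
  have himg : i.base '' {v : W | a ⤳ v ∧ v ⤳ b} = {v : Z | i.base a ⤳ v ∧ v ⤳ i.base b} := by
    ext v
    constructor
    · rintro ⟨w, ⟨h1, h2⟩, rfl⟩
      exact ⟨h1.map i.continuous, h2.map i.continuous⟩
    · rintro ⟨h1, h2⟩
      obtain ⟨w, rfl⟩ := hr v h1 h2
      exact ⟨w, ⟨hi.isInducing.specializes_iff.1 h1, hi.isInducing.specializes_iff.1 h2⟩, rfl⟩
  let e := (hi.homeomorphImage {v : W | a ⤳ v ∧ v ⤳ b}).trans (Homeomorph.setCongr himg)
  exact (IsHomeomorph.topologicalKrullDim_eq e e.isHomeomorph).symm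

/-- The dimension of a closure does not change along a chart that is open in `X` and closed in `Z`. -/
theorem dim_closure_eq_of_chart {X : Scheme.{u}} [IsLocallyNoetherian X] [JacobsonSpace X] [IsLocallyNoetherian Z]
    [JacobsonSpace Z]
    (hX2 : ∀ x : X, CAlg.IsUniversallyCatenary (X.presheaf.stalk x))
    (hX3 : ∀ X' ∈ irreducibleComponents (X : Type u), ∀ x ∈ X', IsClosed ({x} : Set X) →
      topologicalKrullDim (↥X' : Type u) = topologicalKrullDim ↥{t : X | t ∈ X' ∧ t ⤳ x})
    (hZ2 : ∀ x : Z, CAlg.IsUniversallyCatenary (Z.presheaf.stalk x))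
    (hZ3 : ∀ X' ∈ irreducibleComponents (Z : Type u), ∀ x ∈ X', IsClosed ({x} : Set Z) →
      topologicalKrullDim (↥X' : Type u) = topologicalKrullDim ↥{t : Z | t ∈ X' ∧ t ⤳ x})
    (j : W ⟶ X) [IsOpenImmersion j] (i : W ⟶ Z) [IsClosedImmersion i] (w : W) :
    topologicalKrullDim ↥(closure ({j.base w} : Set X)) = topologicalKrullDim ↥(closure ({i.base w} : Set Z)) := by
  obtain ⟨s', ⟨⟨s, rfl⟩, hws⟩, hs'⟩ := nonempty_inter_closedPoints (Z := Set.range j.base ∩ closure ({j.base w} : Set X))
    ⟨j.base w, ⟨w, rfl⟩, subset_closure rfl⟩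
    ((IsOpenImmersion.isOpen_range j).isLocallyClosed.inter isClosed_closure.isLocallyClosed)
  have hjs : j.base w ⤳ j.base s := specializes_iff_mem_closure.2 hws
  have hwsW : w ⤳ s := j.isOpenEmbedding.isEmbedding.isInducing.specializes_iff.1 hjs
  have hsW : IsClosed ({s} : Set W) := by
    have := (hs' : IsClosed ({j.base s} : Set X)).preimage j.continuous
    rwa [show j.base ⁻¹' {j.base s} = {s} from j.isOpenEmbedding.injective.preimage_image {s} ▸ by rw [Set.image_singleton]] at this
  have hsZ : IsClosed ({i.base s} : Set Z) := by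
    rw [← Set.image_singleton]
    exact i.isClosedEmbedding.isClosedMap _ hsW
  rw [dim_closure_eq hX2 hX3 hjs hs', dim_closure_eq hZ2 hZ3 (hwsW.map i.continuous) hsZ,
    dimBetween_map j j.isOpenEmbedding.isEmbedding
      (fun v _ hv ↦ hv.mem_open (IsOpenImmersion.isOpen_range j) ⟨s, rfl⟩),
    dimBetween_map i i.isClosedEmbedding.isEmbedding
      (fun v hv _ ↦ hv.mem_closed i.isClosedEmbedding.isClosed_range ⟨w, rfl⟩)]

end JacDimLib
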