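import Groth.Agent.JacDimLib.Main
import Groth.Agent.DimIneqLib.StalkFibre
import Groth.Agent.EquidimLib.DimEquidim
import Mathlib

/-! # When the dimension inequality is an equality -/

set_option autoImplicit false
universe u

open CategoryTheory AlgebraicGeometry TopologicalSpace Topology UOpenLib

namespace JacDimLib

variable {X Y : Scheme.{u}} [IsLocallyNoetherian Y] (f : X ⟶ Y) [LocallyOfFiniteType f]

omit [IsLocallyNoetherian Y] [LocallyOfFiniteType f] in
theorem stalk_fibre_dim_eq_zero {x : X}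
    (h : ∀ v : X, f.base v = f.base x → v ⤳ x → v = x) :
    ringKrullDim ((f.fiber (f.base x)).presheaf.stalk (f.asFiber x)) = 0 := by
  rw [EquidimLib.stalk_dim_eq, ← EquidimLib.dimBetween_self (f.asFiber x)]
  unfold EquidimLib.dimBetween
  have hu : ∀ v : f.fiber (f.base x), v ⤳ f.asFiber x → v = f.asFiber x := fun v hv ↦
    (f.fiberι (f.base x)).isEmbedding.injective ((h _ (by
      have : (f.fiberι (f.base x)).base v ∈ f.base ⁻¹' {f.base x} := f.range_fiberι _ ▸ ⟨v, rfl⟩
      exact this) ((hv.map (f.fiberι (f.base x)).continuous).trans (specializes_of_eq (f.fiberι_asFiber x)))).trans (f.fiberι_asFiber x).symm)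
  rw [show {v : f.fiber (f.base x) | v ⤳ f.asFiber x} = {v | f.asFiber x ⤳ v ∧ v ⤳ f.asFiber x} from
    Set.ext fun v ↦ ⟨fun hv ↦ ⟨(hu v hv).symm ▸ specializes_rfl, hv⟩, fun hv ↦ hv.2⟩]

theorem dimBetween_le_base {ξ z : X} (hξz : ξ ⤳ z)
    (hz : ∀ v : X, f.base v = f.base z → ξ ⤳ v → v ⤳ z → v = z) :
    EquidimLib.dimBetween ξ z ≤ ringKrullDim (Y.presheaf.stalk (f.base z)) := by
  let J := Scheme.IdealSheafData.vanishingIdeal (⟨closure {ξ}, isClosed_closure⟩ : Closeds X)
  let j := J.subschemeι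
  have hrange : Set.range j.base = closure {ξ} := by
    rw [J.range_subschemeι, Scheme.IdealSheafData.coe_support_vanishingIdeal]
    rfl
  obtain ⟨z₀, hz₀⟩ : z ∈ Set.range j.base := hrange ▸ hξz.mem_closure
  have h := DimIneqLib.ringKrullDim_stalk_le_add_fibre (j ≫ f) z₀
  rw [stalk_fibre_dim_eq_zero (j ≫ f) fun v hv hvz ↦ j.isEmbedding.injective (by
      rw [hz₀]
      exact hz (j.base v) (hz₀ ▸ hv) (specializes_iff_mem_closure.2 (hrange ▸ ⟨v, rfl⟩))
        (hz₀ ▸ hvz.map j.continuous)), add_zero, Scheme.Hom.comp_apply, hz₀] at h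
  refine le_trans (le_of_eq (Eq.symm ?_)) h
  refine EquidimLib.dim_eq_of_range (i := j.base ∘ EquidimLib.stalkPt z₀)
    (j.isEmbedding.isInducing.comp (EquidimLib.isInducing_stalkPt z₀)) ?_
  rw [Set.range_comp, EquidimLib.range_stalkPt]
  ext v
  constructor
  · rintro ⟨a, ha, rfl⟩
    exact ⟨specializes_iff_mem_closure.mpr (hrange ▸ ⟨a, rfl⟩), hz₀ ▸ (ha : a ⤳ z₀).map j.continuous⟩
  · rintro ⟨h1, h2⟩
    obtain ⟨a, rfl⟩ : v ∈ Set.range j.base := hrange ▸ h1.mem_closure
    exact ⟨a, j.isEmbedding.isInducing.specializes_iff.mp (hz₀.symm ▸ h2), rfl⟩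

theorem dim_eq_add_iff [IsLocallyNoetherian X] (x : X)
    (hcat : CAlg.IsUniversallyCatenary (Y.presheaf.stalk (f.base x))) :
    ringKrullDim (X.presheaf.stalk x) =
        ringKrullDim (Y.presheaf.stalk (f.base x)) + ringKrullDim ((f.fiber (f.base x)).presheaf.stalk (f.asFiber x)) ↔
      ∃ z : X, f.base z = f.base x ∧ z ⤳ x ∧ (∀ z' : X, f.base z' = f.base x → z' ⤳ z → z' = z) ∧
        FlatMor.fibreDimAt f z = FlatMor.fibreDimAt f x ∧
        ringKrullDim (X.presheaf.stalk z) = ringKrullDim (Y.presheaf.stalk (f.base z)) := by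
  obtain ⟨b, hb⟩ := exists_fibreClosureDim_eq_nat f x
  obtain ⟨q, hq⟩ := EquidimLib.exists_stalk_dim_eq_nat (f.base x)
  have hfib := EquidimLib.fibreDimAt_eq_add_stalk f x
  haveI : IsLocallyNoetherian (f.fiber (f.base x)) :=
    haveI := lft_fiberToSpec f (f.base x)
    LocallyOfFiniteType.isLocallyNoetherian (f.fiberToSpecResidueField (f.base x))
  obtain ⟨r, hr⟩ := EquidimLib.exists_stalk_dim_eq_nat (X := f.fiber (f.base x)) (f.asFiber x)
  constructor
  · intro heq
    obtain ⟨ξ, hξc, hξx, hd⟩ := EquidimLib.exists_max_dimBetween x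
    -- a minimal point of `cl ξ ∩ fibre` above `x`
    obtain ⟨z, hzy, hξz, hzx, hzmax⟩ : ∃ z : X, f.base z = f.base x ∧ ξ ⤳ z ∧ z ⤳ x ∧
        ∀ v : X, f.base v = f.base z → ξ ⤳ v → v ⤳ z → v = z := by
      let T : Set (PrimeSpectrum (X.presheaf.stalk x)) :=
        {p | f.base (EquidimLib.stalkPt x p) = f.base x ∧ ξ ⤳ EquidimLib.stalkPt x p}
      obtain ⟨p₀, hp₀⟩ := EquidimLib.exists_stalkPt (specializes_rfl : x ⤳ x)
      have hT : T.Nonempty := ⟨p₀, by rw [hp₀], hp₀.symm ▸ hξx⟩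
      obtain ⟨p, hp1, hp2⟩ := exists_minimalFor_of_wellFoundedLT (· ∈ T) (fun p ↦ p.asIdeal.height) hT
      refine ⟨_, hp1.1, hp1.2, EquidimLib.stalkPt_specializes x p, fun v hv hξv hvz ↦ ?_⟩
      obtain ⟨p', rfl⟩ := EquidimLib.exists_stalkPt (hvz.trans (EquidimLib.stalkPt_specializes x p))
      have hle : p' ≤ p := EquidimLib.le_of_stalkPt hvz
      rcases hle.eq_or_lt with rfl | hlt
      · rfl
      · exact absurd ((hp2 (show p' ∈ T from ⟨hv.trans hp1.1, hξv⟩) (Ideal.height_mono hle)).trans_lt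
          (Ideal.height_strict_mono_of_isPrime hlt)) (not_lt.2 le_rfl) 
    have e1 := EquidimLib.dimBetween_add_fibreClosureDim_eq f hξx hcat
    have e2 := EquidimLib.dimBetween_add_fibreClosureDim_eq f hξz (hzy.symm ▸ hcat)
    rw [hzy] at e2
    have h3 := dimBetween_le_base f hξz hzmax
    rw [hzy, hq] at h3
    have h4 : fibreClosureDim f z ≤ FlatMor.fibreDimAt f x := fibreClosureDim_le_fibreDimAt f hzx
    obtain ⟨c, hc⟩ := exists_fibreClosureDim_eq_nat f z
    obtain ⟨a, ha⟩ := EquidimLib.exists_dimBetween_eq_nat hξz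
    rw [← e1, hd, heq, hq, hr, hb, ha, hc] at e2
    rw [ha] at h3
    rw [hfib, hc, hb, hr] at h4
    have e2' : a + c = q + r + b := by exact_mod_cast e2
    have h3' : a ≤ q := by exact_mod_cast h3
    have h4' : c ≤ b + r := by exact_mod_cast h4
    have hmax : ∀ v : X, f.base v = f.base x → v ⤳ z → v = z := by
      intro v hv hvz
      by_contra hne
      have h5 := EquidimLib.fibreClosureDim_eq_add f hvz (hv.trans hzy.symm)
      have h6 := EquidimLib.one_le_dimBetween hvz hne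
      obtain ⟨k, hk⟩ := EquidimLib.exists_dimBetween_eq_nat hvz
      have h7 : fibreClosureDim f v ≤ FlatMor.fibreDimAt f x := by
        exact fibreClosureDim_le_fibreDimAt f (hvz.trans hzx)
      rw [h5, hc, hk, hfib, hb, hr] at h7
      rw [hk] at h6
      have : 1 ≤ k := by exact_mod_cast h6
      have : c + k ≤ b + r := by exact_mod_cast h7
      omega
    refine ⟨z, hzy, hzx, hmax, ?_, le_antisymm ?_ ?_⟩
    · rw [fibreDimAt_eq_of_max f fun v hv hvz ↦ hmax v (hv.trans hzy) (specializes_iff_mem_closure.2 hvz),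
        hfib, hc, hb, hr]
      exact_mod_cast (by omega : c = b + r)
    · have := DimIneqLib.ringKrullDim_stalk_le_add_fibre f z
      rwa [stalk_fibre_dim_eq_zero f fun v hv hvz ↦ hmax v (hv.trans hzy) hvz, add_zero] at this
    · rw [hzy, hq, show q = a by omega, ← ha]
      exact EquidimLib.dimBetween_le_stalk ξ z
  · rintro ⟨z, hzy, hzx, hmax, hzd, hz⟩
    refine le_antisymm (DimIneqLib.ringKrullDim_stalk_le_add_fibre f x) ?_
    obtain ⟨ξ, hξc, hξz, hd⟩ := EquidimLib.exists_max_dimBetween z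
    rw [fibreDimAt_eq_of_max f fun v hv hvz ↦ hmax v (hv.trans hzy) (specializes_iff_mem_closure.2 hvz),
      hfib] at hzd
    have e1 := EquidimLib.dimBetween_add_fibreClosureDim_eq f (hξz.trans hzx) hcat
    have e2 := EquidimLib.dimBetween_add_fibreClosureDim_eq f hξz (hzy.symm ▸ hcat)
    rw [hzy, ← e1, hd, hz, hzy, hzd, add_comm (fibreClosureDim f x) _, ← add_assoc, hb] at e2
    exact (EquidimLib.withBot_add_natCast_cancel e2).le.trans (EquidimLib.dimBetween_le_stalk ξ x)

end JacDimLib
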