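import Groth.Agent.JacDimLib.Main
import Groth.Agent.FibDimLib.TopLocalDim
import Groth.Prelude.Def_Flat
import Mathlib

/-! # Local dimensions of closed subsets of equidimensional Jacobson schemes -/

set_option autoImplicit false
universe u

open CategoryTheory AlgebraicGeometry TopologicalSpace Topology UOpenLib

namespace JacDimLib

variable {X : Scheme.{u}}

theorem dimBetween_mono {η η' v : X} (h : η ⤳ η') :
    EquidimLib.dimBetween η' v ≤ EquidimLib.dimBetween η v := by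
  have hsub : {w : X | η' ⤳ w ∧ w ⤳ v} ⊆ {w | η ⤳ w ∧ w ⤳ v} := fun w hw ↦ ⟨h.trans hw.1, hw.2⟩
  exact (IsEmbedding.inclusion hsub).isInducing.topologicalKrullDim_le

theorem dimBetween_mono_right {η v v' : X} (h : v ⤳ v') :
    EquidimLib.dimBetween η v ≤ EquidimLib.dimBetween η v' := by
  have hsub : {w : X | η ⤳ w ∧ w ⤳ v} ⊆ {w | η ⤳ w ∧ w ⤳ v'} := fun w hw ↦ ⟨hw.1, hw.2.trans h⟩
  exact (IsEmbedding.inclusion hsub).isInducing.topologicalKrullDim_le

theorem dim_le_of_pairs {T : Set X} [QuasiSober T] {c : WithBot ℕ∞}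
    (h : ∀ η ∈ T, ∀ v ∈ T, η ⤳ v → EquidimLib.dimBetween η v ≤ c) : topologicalKrullDim ↥T ≤ c := by
  refine le_of_forall_nat_le fun n hn ↦ ?_
  obtain ⟨d, hinj, hd⟩ := FibDimLib.exists_specChain hn
  have hd' : ∀ i j, i ≤ j → (d i : X) ⤳ d j := fun i j hij ↦ (hd i j hij).map continuous_subtype_val
  refine le_trans ?_ (h _ (d 0).2 _ (d (Fin.last n)).2 (hd' _ _ (Fin.zero_le _)))
  have hQ : QuasiSober ↥{w : X | (d 0 : X) ⤳ w ∧ w ⤳ d (Fin.last n)} := by
    have h1 : IsClosed {w : {w : X | w ⤳ (d (Fin.last n) : X)} | (d 0 : X) ⤳ w} := by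
      simp only [specializes_iff_mem_closure]
      exact isClosed_closure.preimage continuous_subtype_val
    let e : PrimeSpectrum (X.presheaf.stalk (d (Fin.last n) : X)) ≃ₜ {w : X | w ⤳ (d (Fin.last n) : X)} :=
      (EquidimLib.isInducing_stalkPt _).isEmbedding.toHomeomorph.trans
        (Homeomorph.setCongr (EquidimLib.range_stalkPt _))
    haveI : QuasiSober {w : X | w ⤳ (d (Fin.last n) : X)} := e.symm.isClosedEmbedding.quasiSober
    haveI := h1.isClosedEmbedding_subtypeVal.quasiSober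
    let e' : {w : {w : X | w ⤳ (d (Fin.last n) : X)} | (d 0 : X) ⤳ w} ≃ₜ
        {w : X | (d 0 : X) ⤳ w ∧ w ⤳ d (Fin.last n)} :=
      { toFun := fun w ↦ ⟨w.1.1, w.2, w.1.2⟩
        invFun := fun w ↦ ⟨⟨w.1, w.2.2⟩, w.2.1⟩
        left_inv := fun _ ↦ rfl
        right_inv := fun _ ↦ rfl
        continuous_toFun := (continuous_subtype_val.comp continuous_subtype_val).subtype_mk _
        continuous_invFun := (continuous_subtype_val.subtype_mk _).subtype_mk _ }
    exact e'.symm.isClosedEmbedding.quasiSober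
  exact FibDimLib.IsSpecChain.le_topologicalKrullDim
    (c := fun i ↦ (⟨(d i : X), hd' _ _ (Fin.zero_le _), hd' _ _ (Fin.le_last _)⟩ :
      ↥{w : X | (d 0 : X) ⤳ w ∧ w ⤳ d (Fin.last n)}))
    ⟨fun i j e ↦ hinj (Subtype.ext (congrArg (fun w : ↥{w : X | (d 0 : X) ⤳ w ∧ w ⤳ d (Fin.last n)} ↦ (w : X)) e)),
      fun i j hij ↦ IsInducing.subtypeVal.specializes_iff.1 (hd' i j hij)⟩

variable [IsLocallyNoetherian X] [JacobsonSpace X]
  (h2 : ∀ x : X, CAlg.IsUniversallyCatenary (X.presheaf.stalk x))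
  (h3 : ∀ X' ∈ irreducibleComponents (X : Type u), ∀ x ∈ X', IsClosed ({x} : Set X) →
    topologicalKrullDim (↥X' : Type u) = topologicalKrullDim ↥{t : X | t ∈ X' ∧ t ⤳ x})

include h2 h3

theorem dim_closure_eq {η s : X} (hηs : η ⤳ s) (hs : IsClosed ({s} : Set X)) :
    topologicalKrullDim ↥(closure ({η} : Set X)) = EquidimLib.dimBetween η s := by
  haveI := (isClosed_closure : IsClosed (closure ({η} : Set X))).isClosedEmbedding_subtypeVal.quasiSober
  refine le_antisymm (dim_le_of_pairs fun η' hη' v hv h ↦ ?_) ?_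
  · obtain ⟨s', hvs', hs'⟩ := exists_closed_specialization v
    have hη'' : η ⤳ η' := specializes_iff_mem_closure.2 hη'
    exact ((dimBetween_mono hη'').trans (dimBetween_mono_right hvs')).trans
      (dimBetween_closed_eq h2 h3 ((hη''.trans h).trans hvs') hηs hs' hs).le
  · have hsub : {w : X | η ⤳ w ∧ w ⤳ s} ⊆ closure {η} := fun w hw ↦ hw.1.mem_closure
    exact (IsEmbedding.inclusion hsub).isInducing.topologicalKrullDim_le

theorem dim_closure_add {η x : X} (h : η ⤳ x) :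
    topologicalKrullDim ↥(closure ({η} : Set X)) =
      topologicalKrullDim ↥(closure ({x} : Set X)) + EquidimLib.dimBetween η x := by
  obtain ⟨s, hxs, hs⟩ := exists_closed_specialization x
  rw [dim_closure_eq h2 h3 (h.trans hxs) hs, dim_closure_eq h2 h3 hxs hs,
    dimBetween_add_eq h hxs (h2 s), add_comm]

variable {Y : Set X} {x : X}

omit h2 h3 in
theorem exists_dimBetween_eq_dim (hY : IsClosed Y) (hx : x ∈ Y) :
    ∃ η ∈ Y, η ⤳ x ∧ EquidimLib.dimBetween η x = topologicalKrullDim ↥{t : X | t ∈ Y ∧ t ⤳ x} := by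
  have hle : ∀ η ∈ Y, η ⤳ x →
      EquidimLib.dimBetween η x ≤ topologicalKrullDim ↥{t : X | t ∈ Y ∧ t ⤳ x} := fun η hη _ ↦ by
    have hsub : {w : X | η ⤳ w ∧ w ⤳ x} ⊆ {t | t ∈ Y ∧ t ⤳ x} := fun w hw ↦ ⟨hw.1.mem_closed hY hη, hw.2⟩
    exact (IsEmbedding.inclusion hsub).isInducing.topologicalKrullDim_le
  obtain ⟨N, hN⟩ := EquidimLib.exists_stalk_dim_eq_nat x
  let P : ℕ → Prop := fun n ↦ ∃ η ∈ Y, η ⤳ x ∧ (n : WithBot ℕ∞) ≤ EquidimLib.dimBetween η x
  have hP0 : P 0 := ⟨x, hx, specializes_rfl, by rw [EquidimLib.dimBetween_self]; rfl⟩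
  have hbd : ∀ n, P n → n ≤ N := fun n ⟨η, _, _, hn⟩ ↦ by
    have := hn.trans (EquidimLib.dimBetween_le_stalk η x)
    rw [hN] at this
    exact_mod_cast this
  classical
  obtain ⟨η, hη, hηx, hm⟩ := Nat.findGreatest_spec (P := P) (Nat.zero_le N) hP0
  refine ⟨η, hη, hηx, le_antisymm (hle η hη hηx) ?_⟩
  haveI : QuasiSober ↥{t : X | t ∈ Y ∧ t ⤳ x} := by
    let e : PrimeSpectrum (X.presheaf.stalk x) ≃ₜ {w : X | w ⤳ x} :=
      (EquidimLib.isInducing_stalkPt x).isEmbedding.toHomeomorph.trans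
        (Homeomorph.setCongr (EquidimLib.range_stalkPt x))
    haveI : QuasiSober {w : X | w ⤳ x} := e.symm.isClosedEmbedding.quasiSober
    haveI := (hY.preimage (continuous_subtype_val : Continuous ((↑) : {w : X | w ⤳ x} → X))).isClosedEmbedding_subtypeVal.quasiSober
    let e' : (((↑) : {w : X | w ⤳ x} → X) ⁻¹' Y) ≃ₜ {t : X | t ∈ Y ∧ t ⤳ x} :=
      { toFun := fun w ↦ ⟨w.1.1, w.2, w.1.2⟩
        invFun := fun w ↦ ⟨⟨w.1, w.2.2⟩, w.2.1⟩
        left_inv := fun _ ↦ rfl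
        right_inv := fun _ ↦ rfl
        continuous_toFun := (continuous_subtype_val.comp continuous_subtype_val).subtype_mk _
        continuous_invFun := (continuous_subtype_val.subtype_mk _).subtype_mk _ }
    exact e'.symm.isClosedEmbedding.quasiSober
  refine dim_le_of_pairs fun η' hη' v hv h ↦ (dimBetween_mono_right hv.2).trans ?_
  refine le_of_forall_nat_le fun n hn ↦ ?_
  have hPn : P n := ⟨η', hη'.1, hη'.2, hn⟩
  exact (Nat.cast_le.2 (Nat.le_findGreatest (hbd n hPn) hPn)).trans hm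

theorem dim_closure_le (hY : IsClosed Y) {η : X} (hη : η ∈ Y) (hηx : η ⤳ x) :
    topologicalKrullDim ↥(closure ({η} : Set X)) ≤
      topologicalKrullDim ↥(closure ({x} : Set X)) + topologicalKrullDim ↥{t : X | t ∈ Y ∧ t ⤳ x} := by
  rw [dim_closure_add h2 h3 hηx]
  refine add_le_add le_rfl ?_
  have hsub : {w : X | η ⤳ w ∧ w ⤳ x} ⊆ {t | t ∈ Y ∧ t ⤳ x} := fun w hw ↦ ⟨hw.1.mem_closed hY hη, hw.2⟩
  exact (IsEmbedding.inclusion hsub).isInducing.topologicalKrullDim_le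

theorem dim_inter_eq (hY : IsClosed Y) (hx : x ∈ Y) {U : Set X} (hU : IsOpen U) (hxU : x ∈ U)
    (h : ∀ v ∈ U, v ∈ Y → ∃ η ∈ Y, η ⤳ x ∧ η ⤳ v) :
    topologicalKrullDim ↥(U ∩ Y) =
      topologicalKrullDim ↥(closure ({x} : Set X)) + topologicalKrullDim ↥{t : X | t ∈ Y ∧ t ⤳ x} := by
  haveI : QuasiSober ↥(U ∩ Y) := by
    haveI := hU.isOpenEmbedding_subtypeVal.quasiSober
    haveI := (hY.preimage (continuous_subtype_val : Continuous ((↑) : U → X))).isClosedEmbedding_subtypeVal.quasiSober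
    let e' : (((↑) : U → X) ⁻¹' Y) ≃ₜ ↥(U ∩ Y) :=
      { toFun := fun w ↦ ⟨w.1.1, w.1.2, w.2⟩
        invFun := fun w ↦ ⟨⟨w.1, w.2.1⟩, w.2.2⟩
        left_inv := fun _ ↦ rfl
        right_inv := fun _ ↦ rfl
        continuous_toFun := (continuous_subtype_val.comp continuous_subtype_val).subtype_mk _
        continuous_invFun := (continuous_subtype_val.subtype_mk _).subtype_mk _ }
    exact e'.symm.isClosedEmbedding.quasiSober
  refine le_antisymm (dim_le_of_pairs fun η' hη' v hv hh ↦ ?_) ?_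
  · obtain ⟨η, hη, hηx, hη''⟩ := h η' hη'.1 hη'.2
    refine le_trans (((dimBetween_mono hη'').trans ?_)) (dim_closure_le h2 h3 hY hη hηx)
    have hsub : {w : X | η ⤳ w ∧ w ⤳ v} ⊆ closure {η} := fun w hw ↦ hw.1.mem_closure
    exact (IsEmbedding.inclusion hsub).isInducing.topologicalKrullDim_le
  · obtain ⟨η, hη, hηx, hd⟩ := exists_dimBetween_eq_dim hY hx
    obtain ⟨s, ⟨hsU, hsx⟩, hs⟩ := nonempty_inter_closedPoints (Z := U ∩ closure ({x} : Set X))
      ⟨x, hxU, subset_closure rfl⟩ (hU.isLocallyClosed.inter isClosed_closure.isLocallyClosed)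
    have hxs : x ⤳ s := specializes_iff_mem_closure.2 hsx
    rw [dim_closure_eq h2 h3 hxs hs, ← hd, add_comm, ← dimBetween_add_eq hηx hxs (h2 s)]
    have hsub : {w : X | η ⤳ w ∧ w ⤳ s} ⊆ U ∩ Y :=
      fun w hw ↦ ⟨hw.2.mem_open hU hsU, hw.1.mem_closed hY hη⟩
    exact (IsEmbedding.inclusion hsub).isInducing.topologicalKrullDim_le

omit [JacobsonSpace X] h2 h3 in
theorem exists_nhd_generic (hY : IsClosed Y) (hx : x ∈ Y) :
    ∃ U : Set X, IsOpen U ∧ x ∈ U ∧ ∀ v ∈ U, v ∈ Y → ∃ η ∈ Y, η ⤳ x ∧ η ⤳ v := by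
  obtain ⟨W, hW, hxW, -⟩ := exists_isAffineOpen_mem_and_subset (X := X) (x := x) (U := ⊤) trivial
  haveI : IsNoetherianRing Γ(X, W) := IsLocallyNoetherian.component_noetherian ⟨W, hW⟩
  haveI : NoetherianSpace (W : Set X) := noetherianSpace_of_isAffineOpen W hW
  haveI := W.2.isOpenEmbedding_subtypeVal.quasiSober
  let T : Set (W : Set X) := (↑) ⁻¹' Y
  have hT : IsClosed T := hY.preimage continuous_subtype_val
  haveI := hT.isClosedEmbedding_subtypeVal.quasiSober
  haveI : NoetherianSpace T := NoetherianSpace.set T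
  let i : T → X := fun t ↦ t.1.1
  have hi : Continuous i := continuous_subtype_val.comp continuous_subtype_val
  let bad := {C : Set T | C ∈ irreducibleComponents T ∧ (⟨⟨x, hxW⟩, hx⟩ : T) ∉ C}
  have hfin : bad.Finite := NoetherianSpace.finite_irreducibleComponents.subset fun C hC ↦ hC.1
  let B : Set (W : Set X) := ⋃ C ∈ bad, Subtype.val '' C
  have hB : IsClosed B := hfin.isClosed_biUnion fun C hC ↦
    hT.isClosedEmbedding_subtypeVal.isClosedMap _ (isClosed_of_mem_irreducibleComponents C hC.1)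
  refine ⟨Subtype.val '' Bᶜ, W.2.isOpenMap_subtype_val _ hB.isOpen_compl, ⟨⟨x, hxW⟩, ?_, rfl⟩, ?_⟩
  · simp only [B, Set.mem_compl_iff, Set.mem_iUnion, not_exists]
    rintro C hC ⟨t, htC, ht⟩
    exact hC.2 ((Subtype.ext ht : t = ⟨⟨x, hxW⟩, hx⟩) ▸ htC)
  · rintro _ ⟨w, hw, rfl⟩ hwY
    let t : T := ⟨w, hwY⟩
    have hC := irreducibleComponent_mem_irreducibleComponents t
    have hxC : (⟨⟨x, hxW⟩, hx⟩ : T) ∈ irreducibleComponent t := by
      by_contra hcon
      exact hw (Set.mem_biUnion (show irreducibleComponent t ∈ bad from ⟨hC, hcon⟩)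
        ⟨t, mem_irreducibleComponent, rfl⟩)
    obtain ⟨g, hg⟩ := QuasiSober.sober (isIrreducible_irreducibleComponent (x := t)) isClosed_irreducibleComponent
    exact ⟨i g, g.2, (hg.specializes hxC).map hi, (hg.specializes mem_irreducibleComponent).map hi⟩

end JacDimLib
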