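import Groth.Agent.JacDimLib.Embedding
import Groth.Agent.DepthLib.RegAB
import Groth.Agent.CommAlgDim.LocPD
import Mathlib

/-! # Semicontinuity of the rectified depth over regular Jacobson bases -/

set_option autoImplicit false
universe u

open CategoryTheory AlgebraicGeometry TopologicalSpace Topology CommAlgDim

namespace JacDimLib

theorem isLocalizedModule_of_surjective {P B M N : Type u} [CommRing P] [CommRing B] [Algebra P B]
    [AddCommGroup M] [Module B M] [Module P M] [IsScalarTower P B M] [AddCommGroup N] [Module B N] [Module P N]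
    [IsScalarTower P B N] (hs : Function.Surjective (algebraMap P B)) (q : Ideal B) [q.IsPrime] (f : M →ₗ[B] N)
    [IsLocalizedModule q.primeCompl f] :
    IsLocalizedModule (q.comap (algebraMap P B)).primeCompl (f.restrictScalars P) where
  map_units t := by
    rw [Module.End.isUnit_iff]
    have h := (Module.End.isUnit_iff _).1
      (IsLocalizedModule.map_units f (⟨algebraMap P B t.1, t.2⟩ : q.primeCompl))
    convert h using 1
    ext n
    simp [Module.algebraMap_end_apply]
  surj y := by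
    obtain ⟨⟨m, s⟩, hm⟩ := IsLocalizedModule.surj q.primeCompl f y
    obtain ⟨t, ht⟩ := hs s.1
    refine ⟨(m, ⟨t, by show algebraMap P B t ∉ q; rw [ht]; exact s.2⟩), ?_⟩
    show t • y = f m
    rw [← hm, ← IsScalarTower.algebraMap_smul B t y, ht]
    rfl
  exists_of_eq {x₁ x₂} h := by
    obtain ⟨s, hsx⟩ := IsLocalizedModule.exists_of_eq (S := q.primeCompl) (f := f) h
    obtain ⟨t, ht⟩ := hs s.1
    refine ⟨⟨t, by show algebraMap P B t ∉ q; rw [ht]; exact s.2⟩, ?_⟩
    show t • x₁ = t • x₂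
    rw [← IsScalarTower.algebraMap_smul B t x₁, ← IsScalarTower.algebraMap_smul B t x₂, ht]
    exact hsx

theorem isOpen_pdltAt {P : Type u} [CommRing P] [IsNoetherianRing P] (M : Type u) [AddCommGroup M] [Module P M]
    [Module.Finite P M] : ∀ k : ℕ, IsOpen {q : PrimeSpectrum P | PDLTAt P M q k}
  | 0 => by
    have h : {q : PrimeSpectrum P | PDLTAt P M q 0} = (Module.support P M)ᶜ := Set.ext fun q ↦ by
      refine Iff.trans ?_ Module.notMem_support_iff.symm
      exact (CategoryTheory.hasProjectiveDimensionLT_zero_iff_isZero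
        (X := ModuleCat.of (Localization.AtPrime q.asIdeal) (LocalizedModule q.asIdeal.primeCompl M))).trans
        ModuleCat.isZero_iff_subsingleton
    rw [h]
    exact (Module.support_eq_zeroLocus (R := P) (M := M) ▸ PrimeSpectrum.isClosed_zeroLocus _).isOpen_compl
  | k + 1 => isOpen_setOf_pdltAt k M

/-- The rectified depth is, in a regular affine chart, read off a projective dimension. -/
theorem le_depth_add_iff_pdltAt {P B O M N : Type u} [CommRing P] [CommRing B] [CommRing O] [IsLocalRing O]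
    [Algebra P B] [Algebra B O] (hs : Function.Surjective (algebraMap P B)) (q : Ideal B) [q.IsPrime]
    [IsLocalization.AtPrime O q] (Q : PrimeSpectrum P) (hQ : Q.asIdeal = q.comap (algebraMap P B))
    [IsRegularLocalRing (Localization.AtPrime Q.asIdeal)] [AddCommGroup M] [Module B M] [Module P M]
    [IsScalarTower P B M] [Module.Finite P M] [AddCommGroup N] [Module O N] [Module B N] [IsScalarTower B O N]
    (f : M →ₗ[B] N) [IsLocalizedModule q.primeCompl f] {d : ℕ}
    (hd : ringKrullDim (Localization.AtPrime Q.asIdeal) = d) (r n : ℕ) :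
    (n : WithBot ℕ∞) ≤ ((LocCoh.depth O N : ℕ∞) : WithBot ℕ∞) + (r : WithBot ℕ∞) ↔
      PDLTAt P M Q (d + r + 1 - n) := by
  obtain ⟨Q, hQp⟩ := Q
  subst hQ
  let R := Localization.AtPrime (q.comap (algebraMap P B))
  let φ : R →+* O := IsLocalization.lift (M := (q.comap (algebraMap P B)).primeCompl)
    (g := (algebraMap B O).comp (algebraMap P B)) fun t ↦
      IsLocalization.map_units O (⟨algebraMap P B t.1, t.2⟩ : q.primeCompl)
  letI : Algebra R O := φ.toAlgebra
  letI : Algebra P O := ((algebraMap B O).comp (algebraMap P B)).toAlgebra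
  haveI : IsScalarTower P B O := IsScalarTower.of_algebraMap_eq fun _ ↦ rfl
  haveI : IsScalarTower P R O := IsScalarTower.of_algebraMap_eq fun p ↦ by
    rw [RingHom.algebraMap_toAlgebra, RingHom.algebraMap_toAlgebra]
    exact (IsLocalization.lift_eq _ p).symm
  have hsurj : Function.Surjective (algebraMap R O) := fun o ↦ by
    obtain ⟨⟨a, s⟩, hb⟩ := IsLocalization.surj q.primeCompl o
    obtain ⟨a', ha'⟩ := hs a
    obtain ⟨s', hs'⟩ := hs s.1
    refine ⟨IsLocalization.mk' R a' (⟨s', by show algebraMap P B s' ∉ q; rw [hs']; exact s.2⟩ : (q.comap (algebraMap P B)).primeCompl), ?_⟩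
    rw [RingHom.algebraMap_toAlgebra, IsLocalization.lift_mk'_spec]
    show algebraMap B O (algebraMap P B a') = algebraMap B O (algebraMap P B s') * o
    rw [ha', hs', ← hb, mul_comm]
  letI : Module R N := Module.compHom N (algebraMap R O)
  haveI : IsScalarTower R O N := IsScalarTower.of_algebraMap_smul fun _ _ ↦ rfl
  letI : Module P N := Module.compHom N (algebraMap P O)
  haveI : IsScalarTower P O N := IsScalarTower.of_algebraMap_smul fun _ _ ↦ rfl
  haveI : IsScalarTower P R N := IsScalarTower.of_algebraMap_smul fun p x ↦ by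
    show algebraMap R O (algebraMap P R p) • x = algebraMap P O p • x
    rw [← IsScalarTower.algebraMap_apply]
  haveI : IsScalarTower P B N := IsScalarTower.of_algebraMap_smul fun p x ↦ by
    rw [← IsScalarTower.algebraMap_smul O (algebraMap P B p) x]
    rfl
  haveI := isLocalizedModule_of_surjective hs q f
  let e₀ : LocalizedModule (q.comap (algebraMap P B)).primeCompl M ≃ₗ[P] N :=
    IsLocalizedModule.iso _ (f.restrictScalars P)
  let e : LocalizedModule (q.comap (algebraMap P B)).primeCompl M ≃ₗ[R] N :=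
    e₀.extendScalarsOfIsLocalization (q.comap (algebraMap P B)).primeCompl R
  haveI : Module.Finite R (LocalizedModule (q.comap (algebraMap P B)).primeCompl M) :=
    Module.Finite.of_isLocalizedModule (q.comap (algebraMap P B)).primeCompl
      (LocalizedModule.mkLinearMap (q.comap (algebraMap P B)).primeCompl M)
  haveI : Module.Finite R N := Module.Finite.equiv e
  haveI : IsNoetherianRing O := isNoetherianRing_of_surjective R O _ hsurj
  haveI : Module.Finite O N := Module.Finite.of_restrictScalars_finite R O N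
  have hdep : LocCoh.depth O N = LocCoh.depth R N := by
    refine le_antisymm ?_ ?_ <;> refine ENat.forall_natCast_le_iff_le.1 fun n hn ↦ ?_
    · rw [le_depth_iff, DepthLib.hasSeqIn_of_surjective hsurj N n, ← le_depth_iff]
      exact hn
    · rw [le_depth_iff, ← DepthLib.hasSeqIn_of_surjective hsurj N n, ← le_depth_iff]
      exact hn
  rw [hdep]
  exact (DepthLib.le_depth_add_iff_pdlt R N hd r n).trans (PDLT.congr e).symm

/-- In a space with unique maximal generizations near a point, the local ring and the closure add up. -/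
theorem exists_open_add_eq {Z : Scheme.{u}} [IsLocallyNoetherian Z] [JacobsonSpace Z] [CompactSpace Z]
    (h2 : ∀ x : Z, CAlg.IsUniversallyCatenary (Z.presheaf.stalk x))
    (h3 : ∀ X' ∈ irreducibleComponents (Z : Type u), ∀ x ∈ X', IsClosed ({x} : Set Z) →
      topologicalKrullDim (↥X' : Type u) = topologicalKrullDim ↥{t : Z | t ∈ X' ∧ t ⤳ x})
    (hdom : ∀ z : Z, IsDomain (Z.presheaf.stalk z)) (z₀ : Z) :
    ∃ (O : Set Z) (D : ℕ), IsOpen O ∧ z₀ ∈ O ∧ ∀ z ∈ O, ∃ d r : ℕ,
      ringKrullDim (Z.presheaf.stalk z) = d ∧ topologicalKrullDim ↥(closure ({z} : Set Z)) = r ∧ d + r = D := by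
  haveI : IsNoetherian Z := {}
  have hgen : ∀ z : Z, ∃ g : Z, g ⤳ z ∧ ∀ v : Z, v ⤳ z → g ⤳ v := fun z ↦ by
    haveI := hdom z
    refine ⟨EquidimLib.stalkPt z ⟨⊥, Ideal.isPrime_bot⟩, EquidimLib.stalkPt_specializes z _, fun v hv ↦ ?_⟩
    obtain ⟨p, rfl⟩ := EquidimLib.exists_stalkPt hv
    exact EquidimLib.specializes_stalkPt bot_le
  obtain ⟨η, hη, hηU⟩ := hgen z₀
  have hfin := (NoetherianSpace.finite_irreducibleComponents (α := Z)).subset
    (Set.sep_subset _ fun C : Set Z ↦ z₀ ∉ C)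
  refine ⟨(⋃ C ∈ {C | C ∈ irreducibleComponents (Z : Type u) ∧ z₀ ∉ C}, C)ᶜ, ?_⟩
  have key : ∀ z ∈ (⋃ C ∈ {C | C ∈ irreducibleComponents (Z : Type u) ∧ z₀ ∉ C}, C)ᶜ,
      η ⤳ z ∧ ∀ v : Z, v ⤳ z → η ⤳ v := by
    intro z hz
    obtain ⟨g, hg, hgU⟩ := hgen z
    have hC := irreducibleComponent_mem_irreducibleComponents g
    have hz₀C : z₀ ∈ irreducibleComponent g := by
      by_contra hcon
      exact hz (Set.mem_biUnion ⟨hC, hcon⟩ (hg.mem_closed isClosed_irreducibleComponent mem_irreducibleComponent))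
    obtain ⟨c, hc⟩ := QuasiSober.sober (isIrreducible_irreducibleComponent (x := g)) isClosed_irreducibleComponent
    have hcg : c ⤳ g := hc.specializes mem_irreducibleComponent
    have hgc : g ⤳ c := hgU c (hcg.trans hg)
    have hηc : η ⤳ g := (hηU c (hc.specializes hz₀C)).trans hcg
    exact ⟨hηc.trans hg, fun v hv ↦ hηc.trans (hgU v hv)⟩
  obtain ⟨s, hηs, hs⟩ := exists_closed_specialization η
  obtain ⟨D, hD⟩ := EquidimLib.exists_dimBetween_eq_nat hηs
  refine ⟨D, (hfin.isClosed_biUnion fun C hC ↦ isClosed_of_mem_irreducibleComponents C hC.1).isOpen_compl, ?_, ?_⟩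
  · simp only [Set.mem_compl_iff, Set.mem_iUnion, not_exists]
    exact fun C hC h ↦ hC.2 h
  · intro z hz
    obtain ⟨hηz, hU⟩ := key z hz
    obtain ⟨d, hd⟩ := EquidimLib.exists_dimBetween_eq_nat hηz
    have hdd : ringKrullDim (Z.presheaf.stalk z) = d := by
      rw [EquidimLib.stalk_dim_eq, ← hd]
      unfold EquidimLib.dimBetween
      rw [show {v : Z | v ⤳ z} = {v | η ⤳ v ∧ v ⤳ z} from
        Set.ext fun v ↦ ⟨fun hv ↦ ⟨hU v hv, hv⟩, fun hv ↦ hv.2⟩]
    obtain ⟨t, hzt, ht⟩ := exists_closed_specialization z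
    obtain ⟨r, hr⟩ := EquidimLib.exists_dimBetween_eq_nat hzt
    refine ⟨d, r, hdd, (dim_closure_eq h2 h3 hzt ht).trans hr, ?_⟩
    have e := dim_closure_add h2 h3 hηz
    rw [dim_closure_eq h2 h3 hηs hs, dim_closure_eq h2 h3 hzt ht, hD, hr, hd] at e
    have e' : D = r + d := by exact_mod_cast e
    omega

theorem isOpen_le_depth_add_closure {X S : Scheme.{u}} [IsLocallyNoetherian S] [JacobsonSpace S]
    (hreg : ∀ s : S, IsRegularLocalRing ↑(S.presheaf.stalk s))
    (h2 : ∀ s : S, CAlg.IsUniversallyCatenary (S.presheaf.stalk s))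
    (h3 : ∀ S' ∈ irreducibleComponents (S : Type u), ∀ s ∈ S', IsClosed ({s} : Set S) →
      topologicalKrullDim (↥S' : Type u) = topologicalKrullDim ↥{t : S | t ∈ S' ∧ t ⤳ s})
    (g : X ⟶ S) [LocallyOfFiniteType g] (F : X.Modules) [Coh.IsQCoh F] (hF : CohB1.IsFT F) (n : ℕ) :
    IsOpen {x : X | (n : WithBot ℕ∞) ≤
      ((LocCoh.depth ↑(X.presheaf.stalk x) ↑(F.presheaf.stalk x) : ℕ∞) : WithBot ℕ∞) +
        topologicalKrullDim ↥(closure ({x} : Set X))} := by
  haveI : IsLocallyNoetherian X := LocallyOfFiniteType.isLocallyNoetherian g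
  haveI := LocallyOfFiniteType.jacobsonSpace g
  rw [isOpen_iff_forall_mem_open]
  intro x hx
  obtain ⟨_, ⟨U, hU, rfl⟩, hxU, -⟩ :=
    S.isBasis_affineOpens.exists_subset_of_mem_open (Set.mem_univ (g x)) isOpen_univ
  obtain ⟨V, hV, hxV, hVU⟩ := exists_isAffineOpen_mem_and_subset (X := X) (x := x) (U := g ⁻¹ᵁ U) hxU
  have hVU : V ≤ g ⁻¹ᵁ U := hVU
  letI : Algebra Γ(S, U) Γ(X, V) := (g.appLE U V hVU).hom.toAlgebra
  haveI : Algebra.FiniteType Γ(S, U) Γ(X, V) := g.finiteType_appLE hU hV hVU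
  haveI : IsNoetherianRing Γ(S, U) := IsLocallyNoetherian.component_noetherian ⟨U, hU⟩
  haveI : IsRegularRing Γ(S, U) := isRegularRing_iff.2 fun p hp ↦ by
    let s := hU.fromSpec ⟨p, hp⟩
    have hsU : s ∈ U := by
      have h1 : s ∈ Set.range hU.fromSpec := ⟨⟨p, hp⟩, rfl⟩
      rwa [hU.range_fromSpec] at h1
    letI := TopCat.Presheaf.algebra_section_stalk S.presheaf ⟨s, hsU⟩
    have hloc : IsLocalization.AtPrime (S.presheaf.stalk s) (hU.primeIdealOf ⟨s, hsU⟩).asIdeal :=
      hU.isLocalization_stalk ⟨s, hsU⟩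
    rw [show hU.primeIdealOf ⟨s, hsU⟩ = ⟨p, hp⟩ from
      hU.fromSpec.isOpenEmbedding.injective (hU.fromSpec_primeIdealOf ⟨s, hsU⟩)] at hloc
    haveI := hloc
    haveI := hreg s
    exact IsRegularLocalRing.of_ringEquiv
      (IsLocalization.algEquiv p.primeCompl (S.presheaf.stalk s) (Localization.AtPrime p)).toRingEquiv
  obtain ⟨m, π, hπ⟩ := Algebra.FiniteType.iff_quotient_mvPolynomial''.1
    (inferInstance : Algebra.FiniteType Γ(S, U) Γ(X, V))
  let P := MvPolynomial (Fin m) Γ(S, U)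
  letI : Algebra P Γ(X, V) := π.toRingHom.toAlgebra
  let Z : Scheme.{u} := Spec (CommRingCat.of P)
  let gZ : Z ⟶ S := Spec.map (CommRingCat.ofHom (algebraMap Γ(S, U) P)) ≫ hU.fromSpec
  haveI : LocallyOfFiniteType (Spec.map (CommRingCat.ofHom (algebraMap Γ(S, U) P))) := by
    rw [HasRingHomProperty.Spec_iff (P := @LocallyOfFiniteType)]
    exact RingHom.finiteType_algebraMap.mpr inferInstance
  haveI : LocallyOfFiniteType gZ := inferInstance
  haveI : IsLocallyNoetherian Z := LocallyOfFiniteType.isLocallyNoetherian gZ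
  haveI := LocallyOfFiniteType.jacobsonSpace gZ
  have hZ2 := h2_of_lft gZ h2
  have hZ3 := h3_of_lft gZ h2 h3
  let W : Scheme.{u} := Spec Γ(X, V)
  let i : W ⟶ Z := Spec.map (CommRingCat.ofHom π.toRingHom)
  haveI : IsClosedImmersion i := IsClosedImmersion.spec_of_surjective _ hπ
  let eZ : ∀ z : PrimeSpectrum P, Localization.AtPrime z.asIdeal ≃+* (Z.presheaf.stalk z) := fun z ↦
    (IsLocalization.algEquiv z.asIdeal.primeCompl (Localization.AtPrime z.asIdeal)
      ((AlgebraicGeometry.Spec.structureSheaf P).presheaf.stalk z)).toRingEquiv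
  have hstalk : ∀ z : Z, IsRegularLocalRing ↑(Z.presheaf.stalk z) := fun z ↦
    IsRegularLocalRing.of_ringEquiv (eZ z)
  let M := Γ(F, V)
  haveI := QCohLib.finite_of_isFT hF hV
  letI : Module P M := Module.compHom M π.toRingHom
  haveI : IsScalarTower P Γ(X, V) M := IsScalarTower.of_algebraMap_smul fun _ _ ↦ rfl
  haveI : Module.Finite P Γ(X, V) := Module.Finite.of_surjective (Algebra.linearMap P Γ(X, V)) hπ
  haveI : Module.Finite P M := Module.Finite.trans Γ(X, V) M
  let c : PrimeSpectrum Γ(X, V) → PrimeSpectrum P := PrimeSpectrum.comap π.toRingHom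
  obtain ⟨O, D, hO, hxO, hOD⟩ := exists_open_add_eq hZ2 hZ3
    (fun z ↦ haveI := hstalk z; CommAlgDim.isDomain_of_isRegularLocalRing _) (c (hV.primeIdealOf ⟨x, hxV⟩))
  have hmemV : ∀ Q, hV.fromSpec Q ∈ V := fun Q => by
    have h1 : hV.fromSpec Q ∈ Set.range hV.fromSpec := ⟨Q, rfl⟩
    rwa [hV.range_fromSpec] at h1
  have key : ∀ (y : X) (hy : y ∈ V), c (hV.primeIdealOf ⟨y, hy⟩) ∈ O →
      ((n : WithBot ℕ∞) ≤ ((LocCoh.depth ↑(X.presheaf.stalk y) ↑(F.presheaf.stalk y) : ℕ∞) : WithBot ℕ∞) +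
        topologicalKrullDim ↥(closure ({y} : Set X)) ↔
      PDLTAt P M (c (hV.primeIdealOf ⟨y, hy⟩)) (D + 1 - n)) := by
    intro y hy hyO
    obtain ⟨d, r, hd, hr, hdr⟩ := hOD _ hyO
    have hcl := dim_closure_eq_of_chart (h2_of_lft g h2) (h3_of_lft g h2 h3) hZ2 hZ3 hV.fromSpec i
      (hV.primeIdealOf ⟨y, hy⟩)
    rw [show hV.fromSpec.base (hV.primeIdealOf ⟨y, hy⟩) = y from hV.fromSpec_primeIdealOf ⟨y, hy⟩,
      show i.base (hV.primeIdealOf ⟨y, hy⟩) = c (hV.primeIdealOf ⟨y, hy⟩) from rfl] at hcl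
    rw [hcl.trans hr, show D + 1 - n = d + r + 1 - n by omega]
    letI : Algebra Γ(X, V) (X.presheaf.stalk y) := (X.presheaf.germ V y hy).hom.toAlgebra
    haveI : IsLocalization.AtPrime (X.presheaf.stalk y) (hV.primeIdealOf ⟨y, hy⟩).asIdeal :=
      hV.isLocalization_stalk ⟨y, hy⟩
    letI := Module.compHom (F.presheaf.stalk y) (X.presheaf.germ V y hy).hom
    haveI : IsScalarTower Γ(X, V) (X.presheaf.stalk y) (F.presheaf.stalk y) :=
      IsScalarTower.of_algebraMap_smul fun _ _ => rfl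
    haveI := FlatLib.isLocalizedModule_germLin F hV hy
    refine le_depth_add_iff_pdltAt hπ (hV.primeIdealOf ⟨y, hy⟩).asIdeal (c (hV.primeIdealOf ⟨y, hy⟩)) rfl
      (FlatLib.germLin F hy) ?_ r n
    rw [← hd]
    exact ringKrullDim_eq_of_ringEquiv (eZ _)
  refine ⟨hV.fromSpec '' (c ⁻¹' (O ∩ {Q | PDLTAt P M Q (D + 1 - n)})), ?_,
    hV.fromSpec.isOpenEmbedding.isOpenMap _ ((hO.inter (isOpen_pdltAt M _)).preimage (PrimeSpectrum.continuous_comap _)),
    hV.primeIdealOf ⟨x, hxV⟩, ⟨hxO, (key x hxV hxO).1 hx⟩, hV.fromSpec_primeIdealOf ⟨x, hxV⟩⟩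
  rintro _ ⟨Q, ⟨hQO, hQ⟩, rfl⟩
  have e : hV.primeIdealOf ⟨hV.fromSpec Q, hmemV Q⟩ = Q :=
    hV.fromSpec.isOpenEmbedding.injective (hV.fromSpec_primeIdealOf ⟨_, hmemV Q⟩)
  exact (key _ (hmemV Q) (by rw [e]; exact hQO)).2 (by rw [e]; exact hQ)

end JacDimLib
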