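import Groth.Agent.DepthLib.SuppDim
import Groth.Agent.JacDimLib.Inherit
import Mathlib

/-! # The dimension of the support of a stalk -/

set_option autoImplicit false
universe u

open CategoryTheory AlgebraicGeometry TopologicalSpace Topology TensorProduct

namespace JacDimLib

theorem supportDim_stalk {X : Scheme.{u}} (F : X.Modules) [Coh.IsQCoh F] (hF : CohB1.IsFT F) (x : X) :
    Module.Finite (X.presheaf.stalk x) (F.presheaf.stalk x) ∧
      Module.supportDim (X.presheaf.stalk x) (F.presheaf.stalk x) =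
        topologicalKrullDim ↥{t : X | t ∈ CohB1.support F ∧ t ⤳ x} := by
  obtain ⟨_, ⟨V, hV, rfl⟩, hxV, -⟩ :=
    X.isBasis_affineOpens.exists_subset_of_mem_open (Set.mem_univ x) isOpen_univ
  haveI := QCohLib.finite_of_isFT hF hV
  letI : Algebra Γ(X, V) (X.presheaf.stalk x) := (X.presheaf.germ V x hxV).hom.toAlgebra
  haveI : IsLocalization.AtPrime (X.presheaf.stalk x) (hV.primeIdealOf ⟨x, hxV⟩).asIdeal :=
    hV.isLocalization_stalk ⟨x, hxV⟩
  letI := Module.compHom (F.presheaf.stalk x) (X.presheaf.germ V x hxV).hom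
  haveI : IsScalarTower Γ(X, V) (X.presheaf.stalk x) (F.presheaf.stalk x) :=
    IsScalarTower.of_algebraMap_smul fun _ _ => rfl
  haveI := FlatLib.isLocalizedModule_germLin F hV hxV
  have hb : IsBaseChange (X.presheaf.stalk x) (FlatLib.germLin F hxV) :=
    IsLocalizedModule.isBaseChange (hV.primeIdealOf ⟨x, hxV⟩).asIdeal.primeCompl _ _
  let O := X.presheaf.stalk x
  let N := O ⊗[Γ(X, V)] Γ(F, V)
  refine ⟨Module.Finite.equiv hb.equiv, ?_⟩
  rw [← Module.supportDim_eq_of_equiv hb.equiv, Module.supportDim_eq_ringKrullDim_quotient_annihilator]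
  let J := Module.annihilator O N
  refine EquidimLib.dim_eq_of_range (i := EquidimLib.stalkPt x ∘ PrimeSpectrum.comap (Ideal.Quotient.mk J))
    ((EquidimLib.isInducing_stalkPt x).comp
      (PrimeSpectrum.isClosedEmbedding_comap_of_surjective _ _ Ideal.Quotient.mk_surjective).isInducing) ?_
  have hmemV : ∀ Q, hV.fromSpec Q ∈ V := fun Q => by
    have h1 : hV.fromSpec Q ∈ Set.range hV.fromSpec := ⟨Q, rfl⟩
    rwa [hV.range_fromSpec] at h1
  have hpt : ∀ p : PrimeSpectrum O, EquidimLib.stalkPt x p =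
      hV.fromSpec (PrimeSpectrum.comap (algebraMap Γ(X, V) O) p) := fun p ↦
    congrArg (fun φ => φ.base p) (hV.fromSpecStalk_eq_fromSpecStalk hxV).symm
  have hsupp : ∀ p : PrimeSpectrum O, p ∈ Module.support O N ↔ EquidimLib.stalkPt x p ∈ CohB1.support F := by
    intro p
    rw [DepthLib.mem_support_baseChange, hpt p]
    set Q := PrimeSpectrum.comap (algebraMap Γ(X, V) O) p
    rw [← QCohLib.mem_support_iff hV (hmemV Q), show hV.primeIdealOf ⟨hV.fromSpec Q, hmemV Q⟩ = Q from
      hV.fromSpec.isOpenEmbedding.injective (hV.fromSpec_primeIdealOf ⟨_, hmemV Q⟩)]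
  have hzero : ∀ p : PrimeSpectrum O, J ≤ p.asIdeal ↔ p ∈ Module.support O N := fun p => by
    rw [Module.support_eq_zeroLocus, PrimeSpectrum.mem_zeroLocus, SetLike.coe_subset_coe]
  rw [Set.range_comp, EquidimLib.comap_mk_range]
  ext v
  constructor
  · rintro ⟨p, hp, rfl⟩
    exact ⟨(hsupp p).1 ((hzero p).1 hp), EquidimLib.stalkPt_specializes x p⟩
  · rintro ⟨hv, hvx⟩
    obtain ⟨p, rfl⟩ := EquidimLib.exists_stalkPt hvx
    exact ⟨p, (hzero p).2 ((hsupp p).2 hv), rfl⟩

end JacDimLib
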